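import Cfsg.Agent.INV.SZF.NoA1

/-!
# SZF/NoA : no involution of `A = Sz(q)` is conjugate to an element of `K = C(A)`
-/

set_option autoImplicit false
set_option linter.unusedSectionVars false
open Cfsg Subgroup CL.MSS CL.Gold CL.St2
open CL.Szc (Tw Two)
open CL.Sz8 (pg_zpowers pg_of_sq comm_of_sq pow_two_of_mem exists_inv_mem cj_of norm_of sq_cj cm_cj to_syl cj_ne
  conj_sq)

namespace CL.Szf

universe u v

variable {F : Type v} [Field F] [Fintype F] [CharP F 2] {τ : Tw F} {G : Type u} [Group G] [Finite G]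

namespace Su

variable (Γ : Su τ G) {R : Subgroup G} {x : G}

/-- conjugate to an involution of `A` -/
def Cl (y : G) : Prop := ∃ g, g * y * g⁻¹ = Γ.z 1

variable {Γ}

theorem Cl.of {y : G} (g : G) (h : Γ.Cl (g * y * g⁻¹)) : Γ.Cl y :=
  let ⟨k, e⟩ := h; ⟨k * g, by rw [← e]; group⟩

theorem Cl.conj {y : G} (h : Γ.Cl y) (g : G) : Γ.Cl (g * y * g⁻¹) := Cl.of g⁻¹ (by simpa [mul_assoc] using h)

theorem Cl.ne {y : G} (h : Γ.Cl y) : y ≠ 1 := fun e => let ⟨g, e'⟩ := h; Γ.z_ne (by simp [← e', e])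

theorem Cl.sq {y : G} (h : Γ.Cl y) : y * y = 1 := by
  obtain ⟨g, e⟩ := h
  have := Γ.z_sq 1
  rwa [← e, conj_mul, conj_eq_one_iff] at this

theorem exists_hz {b : F} (hb : b ≠ 0) : ∃ k ∈ Γ.A, k * Γ.z b * k⁻¹ = Γ.z 1 :=
  Γ.inv _ (Γ.zA b) (Γ.z_sq b) fun e => hb (Γ.z_eq_one.1 e)

theorem cl_z {b : F} (hb : b ≠ 0) : Γ.Cl (Γ.z b) := let ⟨k, _, e⟩ := exists_hz (Γ := Γ) hb; ⟨k, e⟩

theorem invU {v : G} (hv : v ∈ Γ.U) (e : v * v = 1) : ∃ b, v = Γ.z b := by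
  obtain ⟨a, b, rfl⟩ := hv
  exact ⟨b, by rw [Γ.eq_zero_of_sq e]⟩

theorem comm_U {v v' c : G} (hv : v ∈ Γ.U) (hv' : v' ∈ Γ.U) (hc : c ∈ Γ.U) (c2 : c * c ≠ 1) (e : v * c = c * v)
    (e' : v' * c = c * v') : v * v' = v' * v := by
  obtain ⟨a, b, rfl⟩ := hv
  obtain ⟨a', b', rfl⟩ := hv'
  obtain ⟨c, d, rfl⟩ := hc
  exact Γ.u_comm_iff.2 (B_trans (fun x => c2 (by rw [x]; exact Γ.z_sq d)) (Γ.u_comm_iff.1 e)
    (Γ.u_comm_iff.1 e'))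

namespace Sw

variable (T : Γ.Sw R x)
include T

theorem inv : Γ.Sw R x⁻¹ := by
  have l1 : x •ᶜ R ≤ Γ.U := cj_le_iff_forall.2 T.RU
  have l2 : x •ᶜ Γ.U ≤ R := cj_le_iff_forall.2 T.UR
  have c1 := card_le_of_le l1
  have c2 := card_le_of_le l2
  rw [card_cj] at c1 c2
  exact ⟨fun r hr => by simpa using mem_cj.1 ((eq_of_le_of_card_ge l2 (by rwa [card_cj])).ge hr),
    fun r hr => by simpa using mem_cj.1 ((eq_of_le_of_card_ge l1 (by rwa [card_cj])).ge hr)⟩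

theorem norm : x ∈ normalizer ((R ⊔ Γ.U : Subgroup G) : Set G) := mem_normalizer_of_cj_le (by
  rw [cj_sup]
  exact sup_le ((cj_le_iff_forall.2 T.RU).trans le_sup_right) ((cj_le_iff_forall.2 T.UR).trans le_sup_left))

theorem zR (b : F) : x * Γ.z b * x⁻¹ ∈ R := T.UR _ (Γ.u_mem 0 b)

theorem invR {r : G} (hr : r ∈ R) (e : r * r = 1) : ∃ b, r = x * Γ.z b * x⁻¹ := by
  obtain ⟨b, e⟩ := invU (T.inv.RU r hr) (sq_cj _ e)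
  exact ⟨b, by rw [← e]; group⟩

theorem comm_R {v v' c : G} (hv : v ∈ R) (hv' : v' ∈ R) (hc : c ∈ R) (c2 : c * c ≠ 1) (e : v * c = c * v)
    (e' : v' * c = c * v') : v * v' = v' * v := by
  have := comm_U (T.RU v hv) (T.RU v' hv') (T.RU c hc) (by rw [conj_mul]; simpa using c2) (cm_cj x e) (cm_cj x e')
  rwa [conj_mul, conj_mul, mul_left_inj, mul_right_inj] at this

variable (hR : SylIn 2 R Γ.K)
include hR

theorem invS {s : G} (hs : s ∈ R ⊔ Γ.U) (e : s * s = 1) : ∃ β b, s = x * Γ.z β * x⁻¹ * Γ.z b := by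
  obtain ⟨r, hr, v, hv, rfl⟩ := (Γ.mem_sup hR.le Γ.U_le_A).1 hs
  rw [Γ.mul_mul r v (hR.le hr) (Γ.U_le_A hv)] at e
  obtain ⟨h1, h2⟩ := Γ.ext (hR.le (mul_mem hr hr)) (one_mem _) (Γ.U_le_A (mul_mem hv hv)) (one_mem _)
    (e.trans (mul_one 1).symm)
  obtain ⟨β, rfl⟩ := T.invR hr h1
  obtain ⟨b, rfl⟩ := invU hv h2
  exact ⟨β, b, rfl⟩

theorem cenZ' {s : G} (hs : s ∈ R ⊔ Γ.U) (b : F) : s * (x * Γ.z b * x⁻¹) = x * Γ.z b * x⁻¹ * s := by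
  simpa [mul_assoc] using cm_cj x (Γ.S_cen_z hR.le (cj_of T.inv.norm hs) b)

theorem cenJ {s : G} (hs : s ∈ R ⊔ Γ.U) (β b : F) :
    s * (x * Γ.z β * x⁻¹ * Γ.z b) = x * Γ.z β * x⁻¹ * Γ.z b * s := by
  rw [← mul_assoc, T.cenZ' hR hs, mul_assoc, Γ.S_cen_z hR.le hs, ← mul_assoc]

theorem sylC : SylIn 2 (R ⊔ Γ.U) (centralizer {x * Γ.z 1 * x⁻¹}) :=
  (Γ.sylS hR).of_le (fun s hs => mem_centralizer_singleton_iff.2 (T.cenZ' hR hs 1)) fun g hg =>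
    Γ.cen_le_N (hR.le (T.zR 1)) (sq_cj x (Γ.z_sq 1)) (by simpa using Γ.z_ne) (mem_centralizer_singleton_iff.1 hg)

theorem toS {j : G} (hj : Γ.Cl j) {P : Subgroup G} (hP : IsPGroup 2 P) (hc : ∀ y ∈ P, y * j = j * y) :
    ∃ g, g * j * g⁻¹ = x * Γ.z 1 * x⁻¹ ∧ ∀ y ∈ P, g * y * g⁻¹ ∈ R ⊔ Γ.U :=
  let ⟨k, e⟩ := hj
  to_syl (T.sylC hR) (k := x * k) (by rw [← e]; group) hP hc

theorem not_cl {β b : F} (hβ : β ≠ 0) (hb : b ≠ 0) : ¬ Γ.Cl (x * Γ.z β * x⁻¹ * Γ.z b) := fun hj => by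
  obtain ⟨w, w0, w1⟩ := ex_ne τ 1
  obtain ⟨y, e, hy⟩ := T.toS hR hj (Γ.sylS hR).pgroup fun s hs => T.cenJ hR hs β b
  have n := inv_mem (norm_of hy)
  have m0 := T.UR _ (Γ.u_mem 1 0)
  obtain ⟨r, hr, v, hv, e0⟩ := (Γ.mem_sup hR.le Γ.U_le_A).1 (cj_of n (mem_sup_left m0))
  obtain ⟨r₁, h1, v₁, k1, e1⟩ := (Γ.mem_sup hR.le Γ.U_le_A).1 (cj_of n (mem_sup_right (Γ.u_mem 1 0)))
  obtain ⟨r₂, h2, v₂, k2, e2⟩ := (Γ.mem_sup hR.le Γ.U_le_A).1 (cj_of n (mem_sup_right (Γ.u_mem w 0)))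
  have sq : r * r * (v * v) = x * Γ.z β * x⁻¹ * Γ.z b := by
    rw [← Γ.mul_mul r v (hR.le hr) (Γ.U_le_A hv), ← e0, conj_mul, conj_mul, Γ.u_sq, τ.N_one, ← e]; group
  obtain ⟨s1, s2⟩ := Γ.ext (hR.le (mul_mem hr hr)) (hR.le (T.zR β)) (Γ.U_le_A (mul_mem hv hv)) (Γ.zA b) sq
  obtain ⟨c1, d1⟩ := (Γ.comm_iff (hR.le h1) (hR.le hr) (Γ.U_le_A k1) (Γ.U_le_A hv)).1
    (e0 ▸ e1 ▸ cm_cj y⁻¹ (Γ.comm (hR.le m0) (Γ.uA 1 0)).symm)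
  obtain ⟨c2, d2⟩ := (Γ.comm_iff (hR.le h2) (hR.le hr) (Γ.U_le_A k2) (Γ.U_le_A hv)).1
    (e0 ▸ e2 ▸ cm_cj y⁻¹ (Γ.comm (hR.le m0) (Γ.uA w 0)).symm)
  have := (Γ.comm_iff (hR.le h1) (hR.le h2) (Γ.U_le_A k1) (Γ.U_le_A k2)).2
    ⟨T.comm_R h1 h2 hr (by rw [s1]; simpa [Γ.z_eq_one] using hβ) c1 c2,
      comm_U k1 k2 hv (by rw [s2]; simpa [Γ.z_eq_one] using hb) d1 d2⟩
  rw [← e1, ← e2, conj_mul, conj_mul, mul_left_inj, mul_right_inj] at this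
  rcases τ.B_eq_zero.1 (Γ.u_comm_iff.1 this) with h | h | h
  exacts [one_ne_zero h, w0 h, w1 h.symm]

theorem mx_conj {β b : F} (hβ : β ≠ 0) (hb : b ≠ 0) :
    ∃ g, g * (x * Γ.z β * x⁻¹ * Γ.z b) * g⁻¹ = x * Γ.z 1 * x⁻¹ * Γ.z 1 := by
  obtain ⟨k, hk, e⟩ := exists_hz (Γ := Γ) hb
  obtain ⟨k', hk', e'⟩ := exists_hz (Γ := Γ) hβ
  refine ⟨x * k' * x⁻¹ * k, ?_⟩
  have c : x * k' * x⁻¹ * Γ.z 1 * (x * k' * x⁻¹)⁻¹ = Γ.z 1 := by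
    have := Γ.conj_K (hR.le (T.inv.zR 1)) hk'
    calc _ = x * (k' * (x⁻¹ * Γ.z 1 * x⁻¹⁻¹) * k'⁻¹) * x⁻¹ := by group
      _ = _ := by rw [this]; group
  calc _ = x * k' * x⁻¹ * (k * (x * Γ.z β * x⁻¹) * k⁻¹ * (k * Γ.z b * k⁻¹)) * (x * k' * x⁻¹)⁻¹ := by group
    _ = x * (k' * Γ.z β * k'⁻¹) * x⁻¹ * (x * k' * x⁻¹ * Γ.z 1 * (x * k' * x⁻¹)⁻¹) := by
      rw [e, Γ.conj_K (hR.le (T.zR β)) hk]; group
    _ = _ := by rw [e', c]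

theorem cls {n y : G} (Tn : Γ.Sw R n) (hy : y * (x * Γ.z 1 * x⁻¹) * y⁻¹ ∈ R ⊔ Γ.U) : y ∈ Γ.N ∨ n * y ∈ Γ.N := by
  have c : Γ.Cl (y * (x * Γ.z 1 * x⁻¹) * y⁻¹) := ((cl_z one_ne_zero).conj x).conj y
  obtain ⟨β, b, e⟩ := T.invS hR hy c.sq
  have t := Γ.tight _ (hR.le (T.zR 1)) (sq_cj x (Γ.z_sq 1)) (by simpa using Γ.z_ne)
  by_cases hb : b = 0
  · exact Or.inl (t y (by rw [e, hb, Γ.z_zero, mul_one]; exact hR.le (T.zR β)))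
  by_cases hβ : β = 0
  · refine Or.inr (t _ ?_)
    rw [show n * y * (x * Γ.z 1 * x⁻¹) * (n * y)⁻¹ = n * (y * (x * Γ.z 1 * x⁻¹) * y⁻¹) * n⁻¹ by group, e, hβ,
      Γ.z_zero]
    simpa using hR.le (Tn.zR b)
  · exact absurd (e ▸ c) (T.not_cl hR hβ hb)

theorem tw {n : G} (hn : n ∈ normalizer ((R ⊔ Γ.U : Subgroup G) : Set G)) (nN : n ∉ Γ.N) : Γ.Sw R n := by
  have m := (T.cls hR T (cj_of hn (mem_sup_left (T.zR 1)))).resolve_left nN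
  have m' := mul_mem T.norm hn
  refine ⟨fun r hr => ?_, fun v hv => ?_⟩
  · simpa [mul_assoc] using T.inv.RU _ (Γ.S_inf_K hR.le (cj_of m' (mem_sup_left hr)) (Γ.N_conj_K m (hR.le hr)))
  · simpa [mul_assoc] using T.inv.UR _ (Γ.S_inf_A hR.le (cj_of m' (mem_sup_right hv)) (Γ.N_conj_A m (Γ.U_le_A hv)))

theorem mul_N {n : G} (Tn : Γ.Sw R n) : n * x ∈ Γ.N :=
  Γ.tight _ (hR.le (T.zR 1)) (sq_cj x (Γ.z_sq 1)) (by simpa using Γ.z_ne) _ (by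
    simpa [mul_assoc] using hR.le (Tn.UR _ (T.RU _ (T.zR 1))))

theorem d_mul (b c : F) : x * Γ.z b * x⁻¹ * Γ.z b * (x * Γ.z c * x⁻¹ * Γ.z c) =
    x * Γ.z (b + c) * x⁻¹ * Γ.z (b + c) := by
  rw [Γ.mul_mul _ _ (hR.le (T.zR c)) (Γ.zA b), conj_mul, Γ.z_mul]

theorem j_mul (β b γ c : F) : x * Γ.z β * x⁻¹ * Γ.z b * (x * Γ.z γ * x⁻¹ * Γ.z c) =
    x * Γ.z (β + γ) * x⁻¹ * Γ.z (b + c) := by
  rw [Γ.mul_mul _ _ (hR.le (T.zR γ)) (Γ.zA b), conj_mul, Γ.z_mul, Γ.z_mul]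

section
variable (x2 : x * x = 1)
include x2

theorem d_cen {v : G} (hv : v ∈ Γ.U) : x * v * x⁻¹ * v ∈ (R ⊔ Γ.U) ⊓ centralizer {x} := by
  refine ⟨mul_mem (mem_sup_left (T.UR v hv)) (mem_sup_right hv), mem_centralizer_singleton_iff.2 ?_⟩
  nth_rewrite 1 [Γ.comm (hR.le (T.UR v hv)) (Γ.U_le_A hv)]
  rw [inv_eq_of_mul_eq_one_right x2, ← mul_assoc x, ← mul_assoc x, ← mul_assoc x, x2, mul_assoc v, mul_assoc _ x x, x2]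
  group

omit T hR in
theorem d_conj (b : F) : Γ.z b * x * (Γ.z b)⁻¹ = x * (x * Γ.z b * x⁻¹ * Γ.z b) := by
  rw [Γ.z_inv, ← mul_assoc, ← mul_assoc, ← mul_assoc, x2, one_mul, inv_eq_of_mul_eq_one_right x2]

theorem not_cl_self : ¬ Γ.Cl x := fun hx => by
  obtain ⟨y, e, hy⟩ := T.toS hR hx ((Γ.sylS hR).pgroup.to_le (inf_le_left (b := centralizer {x})))
    fun s hs => mem_centralizer_singleton_iff.1 hs.2
  have key : ∀ b, b ≠ 0 → ∃ c, y * (x * Γ.z b * x⁻¹ * Γ.z b) * y⁻¹ = x * Γ.z 1 * x⁻¹ * Γ.z c := fun b hb => by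
    obtain ⟨β, c, e1⟩ := T.invS hR (hy _ (T.d_cen hR x2 (Γ.u_mem 0 b)))
      (sq_cj y (by rw [T.d_mul hR, add_self, Γ.z_zero]; simp))
    have n := fun h => T.not_cl hR hb hb (Cl.of y h)
    have c1 := (hx.conj (Γ.z b)).conj y
    rw [d_conj x2, ← conj_mul, e, e1, ← mul_assoc, conj_mul, Γ.z_mul] at c1
    rw [e1] at n
    refine ⟨c, ?_⟩
    by_cases h1 : 1 + β = 0
    · rw [e1, show β = 1 by linear_combination h1 - add_self (1 : F)]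
    exfalso
    have hc : c = 0 := by by_contra hc; exact T.not_cl hR h1 hc c1
    rw [hc, Γ.z_zero, mul_one] at n e1
    refine n ((cl_z fun h0 => hb ?_).conj x)
    rw [h0, Γ.z_zero, mul_one, mul_inv_cancel, conj_eq_one_iff] at e1
    exact Γ.z_eq_one.1 (Γ.ext (hR.le (T.zR b)) (one_mem _) (Γ.zA b) (one_mem _) (e1.trans (mul_one 1).symm)).2
  obtain ⟨c1, e1⟩ := key 1 one_ne_zero
  obtain ⟨w, w0, w1⟩ := ex_ne τ 1
  obtain ⟨c2, e2⟩ := key w w0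
  obtain ⟨c3, e3⟩ := key _ (one_add_ne w1)
  rw [← T.d_mul hR, ← conj_mul, e1, e2, T.j_mul hR] at e3
  have := (Γ.ext (hR.le (T.zR _)) (hR.le (T.zR _)) (Γ.zA _) (Γ.zA _) e3).1
  rw [mul_left_inj, mul_right_inj, add_self] at this
  exact zero_ne_one (Γ.z_inj this)

theorem not_mx {P : Subgroup G} (hP : SylIn 2 P ⊤) (hx : x ∈ P) (hS : R ⊔ Γ.U ≤ P)
    (h1 : ∀ s ∈ P, s ∈ R ⊔ Γ.U ∨ x * s ∈ R ⊔ Γ.U) (h2 : ∀ s ∈ P, s * s ∈ R ⊔ Γ.U) {k : G}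
    (e : k * x * k⁻¹ = x * Γ.z 1 * x⁻¹ * Γ.z 1) : False := by
  obtain ⟨y, e, hy⟩ := to_syl (hP.of_le (K := centralizer {x * Γ.z 1 * x⁻¹ * Γ.z 1}) (fun s hs =>
    mem_centralizer_singleton_iff.2 ((h1 s hs).elim (fun m => T.cenJ hR m 1 1) fun m => by
      have c := T.cenJ hR m 1 1
      rw [← mul_assoc _ x, mem_centralizer_singleton_iff.1 (T.d_cen hR x2 (Γ.u_mem 0 1)).2] at c
      exact mul_left_cancel ((mul_assoc x s _).symm.trans (c.trans (mul_assoc x _ s))))) le_top) e ((Γ.sylS hR).pgroup.to_le (inf_le_left (b := centralizer {x})))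
    fun s hs => mem_centralizer_singleton_iff.1 hs.2
  have key : ∀ b, ∃ β c, y * (x * Γ.z b * x⁻¹ * Γ.z b) * y⁻¹ = x * Γ.z β * x⁻¹ * Γ.z c := fun b => by
    refine T.invS hR ?_ (sq_cj y (by rw [T.d_mul hR, add_self, Γ.z_zero]; simp))
    obtain ⟨b, rfl⟩ := τ.N_surj b
    have := h2 _ (hy _ (T.d_cen hR x2 (Γ.u_mem b 0)))
    rwa [conj_mul, Γ.mul_mul _ _ (hR.le (T.UR _ (Γ.u_mem _ _))) (Γ.uA _ _), conj_mul, Γ.u_sq] at this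
  choose β c key using key
  have zero : ∀ {j : G} {b}, j = x * Γ.z 0 * x⁻¹ * Γ.z b → j = 1 ∨ Γ.Cl j := fun {j b} e => by
    rw [Γ.z_zero, mul_one, mul_inv_cancel, one_mul] at e
    by_cases hb : b = 0
    · exact Or.inl (by rw [e, hb, Γ.z_zero])
    · exact Or.inr (e ▸ cl_z hb)
  have hi : Function.Injective β := fun b b' eb => by
    by_contra hn
    have hb : b + b' ≠ 0 := fun e => hn (by linear_combination e - add_self b')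
    have e1 := T.j_mul hR (β b) (c b) (β b') (c b')
    rw [← key, ← key, conj_mul, T.d_mul hR, eb, add_self] at e1
    rcases zero e1 with e2 | e2
    · rw [conj_eq_one_iff] at e2
      exact hb (Γ.z_eq_one.1 (Γ.ext (hR.le (T.zR _)) (one_mem _) (Γ.zA _) (one_mem _) (e2.trans (mul_one 1).symm)).2)
    · exact T.not_cl hR hb hb (Cl.of y e2)
  obtain ⟨b, hb⟩ := Finite.surjective_of_injective hi 1
  have e1 := T.j_mul hR 1 1 (β b) (c b)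
  rw [← key, ← e, conj_mul, ← d_conj x2, hb, add_self] at e1
  rcases zero e1 with e2 | e2
  · rw [conj_eq_one_iff, conj_eq_one_iff] at e2
    exact Γ.z_ne (Γ.AK _ (Γ.zA 1) (by simpa [e2] using hR.le (T.zR 1)))
  · exact T.not_cl_self hR x2 (Cl.of _ (Cl.of y e2))

end

theorem false : False := by
  have : Fact (Nat.Prime 2) := ⟨Nat.prime_two⟩
  have hS := Γ.sylS hR
  have ZK : x •ᶜ Γ.Z ≤ Γ.K := cj_le_iff_forall.2 fun _ ⟨b, e⟩ => e ▸ hR.le (T.zR b)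
  have mJ : ∀ j, j ∈ x •ᶜ Γ.Z ⊔ Γ.Z ↔ ∃ β b, j = x * Γ.z β * x⁻¹ * Γ.z b := fun j => by
    rw [Γ.mem_E ZK]
    exact ⟨fun ⟨r, hr, b, e⟩ => let ⟨_, ⟨β, e1⟩, e2⟩ := mem_cj'.1 hr; ⟨β, b, by rw [e, ← e2, e1]⟩,
      fun ⟨β, b, e⟩ => ⟨_, conj_mem_cj (Γ.z_mem β), b, e⟩⟩
  have J2 : ∀ j ∈ x •ᶜ Γ.Z ⊔ Γ.Z, j * j = 1 := fun j hj => by
    obtain ⟨β, b, rfl⟩ := (mJ j).1 hj
    rw [T.j_mul hR, add_self, add_self, Γ.z_zero]; simp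
  have fin : ∀ P, SylIn 2 P ⊤ → R ⊔ Γ.U ≤ P →
      (∀ β b g, g * (x * Γ.z β * x⁻¹ * Γ.z b) * g⁻¹ ∈ P → g * (x * Γ.z β * x⁻¹ * Γ.z b) * g⁻¹ ∈ R ⊔ Γ.U) →
      False := fun P hP hle hc => by
    refine Γ.nsc _ (fun e => Γ.z_ne (mem_bot.1 (e.le (mem_sup_right (Γ.z_mem 1))))) J2
      (SCIn.sc (fun j hj g _ hg => (mJ _).2 ?_) hP fun j hj => ?_)
    · obtain ⟨β, b, e⟩ := (mJ j).1 hj
      exact T.invS hR (e ▸ hc β b g (e ▸ hg)) (sq_cj g (J2 j hj))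
    · obtain ⟨β, b, rfl⟩ := (mJ j).1 hj
      exact hle (mul_mem (mem_sup_left (T.zR β)) (mem_sup_right (Γ.u_mem 0 b)))
  obtain ⟨P, hP, hle⟩ := exists_sylIn_ge hS.pgroup (le_normalizer (H := R ⊔ Γ.U))
  have inN : ∀ {Q : Subgroup G}, IsPGroup 2 Q → R ⊔ Γ.U ≤ Q → ∀ s ∈ Q, s ∈ Γ.N → s ∈ R ⊔ Γ.U :=
    fun {Q} hQ l s h1 h2 => (hS.max _ (hQ.to_le (inf_le_left (b := Γ.N))) (le_inf l hS.le) inf_le_right).le ⟨h1, h2⟩
  by_cases hPS : P ≤ R ⊔ Γ.U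
  · obtain rfl := le_antisymm hPS hle
    exact fin _ (hP.of_normalizer_le le_top inf_le_right) le_rfl fun _ _ _ e => e
  obtain ⟨n₀, m0, n0⟩ := SetLike.not_le_iff_exists.1 hPS
  have tw : ∀ n ∈ P, n ∉ R ⊔ Γ.U → Γ.Sw R n := fun n hn e =>
    T.tw hR (hP.le hn) fun y => e (inN hP.pgroup hle n hn y)
  have two : ∀ n ∈ P, ∀ s ∈ P, n ∉ R ⊔ Γ.U → s ∉ R ⊔ Γ.U → n * s ∈ R ⊔ Γ.U := fun n hn s hs e1 e2 =>
    inN hP.pgroup hle _ (mul_mem hn hs) ((tw s hs e2).mul_N hR (tw n hn e1))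
  have clS : ∀ n ∈ P, Γ.Cl n → n ∈ R ⊔ Γ.U := fun n hn c => by
    by_contra e
    exact (tw n hn e).not_cl_self hR c.sq c
  have top : SylIn 2 P ⊤ := SylIn.of_normalizer ⟨le_inf le_top le_normalizer, hP.pgroup, fun Q hQ l1 l2 =>
    le_antisymm (fun y hy => by
      rcases T.cls hR (tw n₀ m0 n0) (clS _ (cj_of (l2 hy).2 (hle (mem_sup_left (T.zR 1))))
        (((cl_z one_ne_zero).conj x).conj y)) with e | e
      · exact hle (inN hQ (hle.trans l1) y hy e)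
      · exact (mul_mem_cancel_left m0).1 (hle (inN hQ (hle.trans l1) _ (mul_mem (l1 m0) hy) e))) l1⟩
  refine fin P top hle fun β b g hg => ?_
  by_contra e
  have n2 := sq_cj g (J2 _ ((mJ _).2 ⟨β, b, rfl⟩))
  have Tn := tw _ hg e
  have ncl := fun c => Tn.not_cl_self hR n2 (Cl.conj c g)
  have hb : b ≠ 0 := fun hb => by
    rw [hb, Γ.z_zero, mul_one] at ncl e
    exact ncl ((cl_z fun h0 => e (by simp [h0, Γ.z_zero])).conj x)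
  have hβ : β ≠ 0 := fun h0 => ncl (by simpa [h0, Γ.z_zero] using cl_z hb)
  obtain ⟨γ, e1⟩ := Tn.invR (T.zR β) (sq_cj x (Γ.z_sq β))
  obtain ⟨k, e2⟩ := Tn.mx_conj hR (β := γ) (fun h0 => hβ (by
    rwa [h0, Γ.z_zero, mul_one, mul_inv_cancel, conj_eq_one_iff, Γ.z_eq_one] at e1)) hb
  refine Tn.not_mx hR n2 top hg hle (fun s hs => (em _).imp_right (two _ hg s hs e))
    (fun s hs => (em (s ∈ R ⊔ Γ.U)).elim (fun m => mul_mem m m) fun m => two s hs s hs m m) (k := k * g⁻¹) ?_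
  rw [← e2, ← e1]; group

end Sw

end Su

/-- An involution of `A` is not conjugate to an element of `K`. -/
theorem Su.noA (Γ : Su τ G) : ∀ t ∈ Γ.K, t * t = 1 → ∀ g, g * t * g⁻¹ ∈ Γ.A → t = 1 := by
  intro t ht tt g hg
  by_contra t1
  obtain ⟨k, -, e⟩ := Γ.inv _ hg (sq_cj g tt) (by simpa using t1)
  obtain ⟨R, hR⟩ := exists_sylIn 2 Γ.K
  have e' : k * g * t * (k * g)⁻¹ = Γ.z 1 := Eq.trans (by group) e
  obtain ⟨n, hn, hx⟩ := Γ.exists_x hR ht tt t1 e' fun s hs => Γ.S_cen_z hR.le hs 1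
  refine (Γ.tw_of hR hx (fun y => Γ.z_ne (Γ.AK _ (Γ.zA 1) ?_)) (mem_cj.2 (Γ.S_inf_K hR.le ?_ ?_))).false hR
  · exact e' ▸ Γ.N_conj_K ((mul_mem_cancel_right hn).1 y) ht
  · simpa using cj_of (inv_mem hx) (mem_sup_right (Γ.u_mem 0 1))
  · convert Γ.N_conj_K (inv_mem hn) ht using 1
    rw [← e']; group

end CL.Szf
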